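/-
Solvable fusion systems are those with a chain of strongly closed subgroups with abelian factors;
such systems are constrained, and solvability passes to and from normal subsystems and factors.
-/
import Cfsg.Agent.Fusion.NormalSubgroup
import Cfsg.Agent.FusionFactor.ImageSaturated
import Cfsg.Prelude.Def_FusionComponents

set_option autoImplicit false

namespace CfsgLib.FusionSolvable

open Cfsg Cfsg.FusionSystem CfsgLib.Fusion
open CfsgLib.FusionFactor (apply_mem_of_stronglyClosed mem_preimageAlong preimageAlong_le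
  mem_sup_stronglyClosed isSurjectiveMorphism_of_isFactorSystem isSaturated_factor)
open scoped commutatorElement

variable {Ω : Type*} [Group Ω] {S : Subgroup Ω} {p : ℕ}

/-- A chain of strongly closed subgroups with abelian factors from `A` up to `S`. -/
inductive Chain (F : FusionSystem S) : Subgroup Ω → Prop
  | top : Chain F S
  | step {A B : Subgroup Ω} : F.StronglyClosed A → A ≤ B → ⁅B, B⁆ ≤ A → Chain F B → Chain F A

theorem stronglyClosed_self (F : FusionSystem S) : F.StronglyClosed S :=
  ⟨le_rfl, fun _ _ φ hφ x => apply_mem hφ x⟩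

theorem Chain.stronglyClosed {F : FusionSystem S} {A : Subgroup Ω} (h : Chain F A) :
    F.StronglyClosed A := by
  cases h with
  | top => exact stronglyClosed_self F
  | step h => exact h

theorem Chain.exists_fin {F : FusionSystem S} {A : Subgroup Ω} (h : Chain F A) :
    ∃ (n : ℕ) (T : Fin (n + 1) → Subgroup Ω), T 0 = A ∧ T (Fin.last n) = S ∧ Monotone T ∧
      (∀ i, F.StronglyClosed (T i)) ∧
      ∀ i : Fin n, ⁅T i.succ, T i.succ⁆ ≤ T (Fin.castSucc i) := by
  induction h with
  | top => exact ⟨0, fun _ => S, rfl, rfl, monotone_const, fun _ => stronglyClosed_self F,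
      fun i => i.elim0⟩
  | @step A B hA hAB hcomm hB ih =>
    obtain ⟨n, T, h0, hl, hmono, hsc, hc⟩ := ih
    refine ⟨n + 1, Fin.cons A T, rfl, ?_, ?_, ?_, ?_⟩
    · rw [← Fin.succ_last, Fin.cons_succ, hl]
    · intro i j hij
      induction j using Fin.cases with
      | zero => rw [Fin.le_zero_iff.1 hij]
      | succ j =>
        induction i using Fin.cases with
        | zero =>
          simp only [Fin.cons_zero, Fin.cons_succ]
          exact hAB.trans (h0.ge.trans (hmono (Fin.zero_le j)))
        | succ i =>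
          simp only [Fin.cons_succ]
          exact hmono (Fin.succ_le_succ_iff.1 hij)
    · intro i
      induction i using Fin.cases with
      | zero => exact hA
      | succ i => exact hsc i
    · intro i
      induction i using Fin.cases with
      | zero =>
        show ⁅T 0, T 0⁆ ≤ A
        rw [h0]; exact hcomm
      | succ i =>
        rw [← Fin.succ_castSucc]
        simp only [Fin.cons_succ]
        exact hc i

theorem chain_of_fin {F : FusionSystem S} {n : ℕ} {T : Fin (n + 1) → Subgroup Ω}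
    (hl : T (Fin.last n) = S) (hmono : Monotone T) (hsc : ∀ i, F.StronglyClosed (T i))
    (hc : ∀ i : Fin n, ⁅T i.succ, T i.succ⁆ ≤ T (Fin.castSucc i)) (i : Fin (n + 1)) :
    Chain F (T i) := by
  induction i using Fin.reverseInduction with
  | last => rw [hl]; exact Chain.top
  | cast i ih => exact ih.step (hsc _) (hmono i.castSucc_lt_succ.le) (hc i)

/-! ### Images and preimages in factor systems -/

section factor

variable {Ω' : Type*} [Group Ω'] {S' : Subgroup Ω'} {F : FusionSystem S} {R : Subgroup Ω}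
  {θ : S →* Ω'} {E : FusionSystem S'}

/-- Images of strongly closed subgroups in a factor system are strongly closed. -/
theorem stronglyClosed_image [Finite S] (hR : F.StronglyClosed R) (hE : F.IsFactorSystem R θ E)
    {A : Subgroup Ω} (hA : F.StronglyClosed A) : E.StronglyClosed ((A.subgroupOf S).map θ) := by
  obtain ⟨-, hker, hrange, hHom⟩ := hE
  refine ⟨hrange ▸ Subgroup.map_le_range _ _, fun R' hR' φ' hφ' x' => ?_⟩
  obtain ⟨hR'S, φ, hφ, hP, hφS, hP', hind⟩ := (hHom R' φ').1 hφ'
  obtain ⟨s, hs⟩ : (x' : Ω') ∈ θ.range := hrange.symm ▸ hR'S x'.2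
  obtain ⟨a, ha, hax⟩ := hR' x'.2
  have hapre : (a : Ω) ∈ preimageAlong θ R' :=
    mem_preimageAlong.2 ⟨a.2, by rw [hax]; exact x'.2⟩
  have hφa : φ ⟨a, hapre⟩ ∈ A := apply_mem_of_stronglyClosed hA hφ ha
  refine ⟨⟨φ ⟨a, hapre⟩, hφS _⟩, hφa, ?_⟩
  rw [← hind ⟨a, hapre⟩]
  exact congrArg φ' (Subtype.ext hax)

/-- Preimages of strongly closed subgroups of a factor system are strongly closed. -/
theorem stronglyClosed_preimage [Finite S] [Fact p.Prime] (hS : IsPGroup p S) (hF : F.IsSaturated p)
    (hR : F.StronglyClosed R) (hE : F.IsFactorSystem R θ E) {A' : Subgroup Ω'}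
    (hA : E.StronglyClosed A') : F.StronglyClosed (preimageAlong θ A') := by
  obtain ⟨⟨-, hmor⟩, -, -⟩ := isSurjectiveMorphism_of_isFactorSystem hS hF hR hE
  refine ⟨preimageAlong_le θ A', fun P hP φ hφ x => ?_⟩
  obtain ⟨φ', hφ', hPS, hφS, hP', hind⟩ := hmor P φ hφ
  refine mem_preimageAlong.2 ⟨hφS x, ?_⟩
  rw [← hind x]
  refine hA.2 _ ?_ φ' hφ' _
  rintro _ ⟨w, hw, rfl⟩
  exact (mem_preimageAlong.1 (hP hw)).2

theorem le_preimage (hE : F.IsFactorSystem R θ E) (A' : Subgroup Ω') :
    R ≤ preimageAlong θ A' := fun r hr =>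
  mem_preimageAlong.2 ⟨hE.1 hr, by rw [(hE.2.1 ⟨r, hE.1 hr⟩).2 hr]; exact one_mem A'⟩

theorem preimage_top (hE : F.IsFactorSystem R θ E) : preimageAlong θ S' = S := by
  refine le_antisymm (preimageAlong_le θ S') fun x hx => mem_preimageAlong.2 ⟨hx, ?_⟩
  rw [← hE.2.2.1]
  exact ⟨_, rfl⟩

theorem preimage_bot (hE : F.IsFactorSystem R θ E) : preimageAlong θ ⊥ = R := by
  refine le_antisymm (fun x hx => ?_) (le_preimage hE ⊥)
  obtain ⟨hxS, h1⟩ := mem_preimageAlong.1 hx
  exact (hE.2.1 ⟨x, hxS⟩).1 (Subgroup.mem_bot.1 h1)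

theorem commutator_preimage_le {A B : Subgroup Ω'} (h : ⁅B, B⁆ ≤ A) :
    ⁅preimageAlong θ B, preimageAlong θ B⁆ ≤ preimageAlong θ A := by
  rw [Subgroup.commutator_le]
  intro a ha b hb
  obtain ⟨haS, ha'⟩ := mem_preimageAlong.1 ha
  obtain ⟨hbS, hb'⟩ := mem_preimageAlong.1 hb
  refine mem_preimageAlong.2 ⟨Subgroup.commutator_le_self S
    (Subgroup.commutator_mem_commutator haS hbS), ?_⟩
  have := h (Subgroup.commutator_mem_commutator ha' hb')
  rw [← map_commutatorElement] at this
  exact this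

/-- Images of chains. -/
theorem Chain.image [Finite S] (hR : F.StronglyClosed R) (hE : F.IsFactorSystem R θ E)
    {A : Subgroup Ω} (h : Chain F A) : Chain E ((A.subgroupOf S).map θ) := by
  induction h with
  | top =>
    rw [Subgroup.subgroupOf_self, ← MonoidHom.range_eq_map, hE.2.2.1]
    exact Chain.top
  | @step A B hA hAB hcomm hB ih =>
    refine ih.step (stronglyClosed_image hR hE hA)
      (Subgroup.map_mono (fun x hx => hAB hx)) ?_
    rw [← Subgroup.map_commutator]
    refine Subgroup.map_mono ?_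
    rw [Subgroup.commutator_le]
    intro a ha b hb
    exact hcomm (Subgroup.commutator_mem_commutator ha hb)

/-- Preimages of chains. -/
theorem Chain.preimage [Finite S] [Fact p.Prime] (hS : IsPGroup p S) (hF : F.IsSaturated p)
    (hR : F.StronglyClosed R) (hE : F.IsFactorSystem R θ E)
    {A' : Subgroup Ω'} (h : Chain E A') : Chain F (preimageAlong θ A') := by
  induction h with
  | top => rw [preimage_top hE]; exact Chain.top
  | @step A B hA hAB hcomm hB ih =>
    exact ih.step (stronglyClosed_preimage hS hF hR hE hA)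
      (fun x hx => mem_preimageAlong.2
        ⟨(mem_preimageAlong.1 hx).1, hAB (mem_preimageAlong.1 hx).2⟩)
      (commutator_preimage_le hcomm)

end factor

/-! ### Solvability -/

variable {F : FusionSystem S} [Finite S] [Fact p.Prime]

theorem isSolvableSystem_of_chain (hS : IsPGroup p S) (hF : F.IsSaturated p)
    (h : Chain F ⊥) : F.IsSolvableSystem := by
  intro R hR hRS _ E hE
  set θ := QuotientGroup.mk' (R.subgroupOf S)
  have hEs := isSaturated_factor hS hF hR hE
  have hQp : IsPGroup p (⊤ : Subgroup (S ⧸ R.subgroupOf S)) := (hS.to_quotient _).to_subgroup _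
  -- the first term of the chain outside `R`
  have key : ∀ {A : Subgroup Ω}, Chain F A → A ≤ R → ∃ B, F.StronglyClosed B ∧ ¬ B ≤ R ∧
      ⁅B, B⁆ ≤ R := by
    intro A hA
    induction hA with
    | top => exact fun hle => absurd (le_antisymm hR.1 hle) hRS
    | @step A B hA hAB hcomm hB ih =>
      intro hAR
      by_cases hBR : B ≤ R
      · exact ih hBR
      · exact ⟨B, hB.stronglyClosed, hBR, hcomm.trans hAR⟩
  obtain ⟨B, hB, hBR, hBc⟩ := key h bot_le
  intro hcore
  have hab : IsMulCommutative ((B.subgroupOf S).map θ) := by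
    refine ⟨⟨?_⟩⟩
    rintro ⟨_, a, ha, rfl⟩ ⟨_, b, hb, rfl⟩
    refine Subtype.ext ?_
    show θ a * θ b = θ b * θ a
    rw [← commutatorElement_eq_one_iff_mul_comm, ← map_commutatorElement]
    exact (hE.2.1 _).2 (hBc (Subgroup.commutator_mem_commutator ha hb))
  have hle := le_sSup (α := Subgroup (S ⧸ R.subgroupOf S)) (s := {Q | E.IsNormal Q})
    (isNormal_of_abelian hQp hEs (stronglyClosed_image hR hE hB) hab)
  rw [show sSup {Q | E.IsNormal Q} = E.core from rfl, hcore] at hle
  refine hBR fun b hb => (hE.2.1 ⟨b, hB.1 hb⟩).1 (Subgroup.mem_bot.1 (hle ?_))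
  exact ⟨⟨b, hB.1 hb⟩, hb, rfl⟩

theorem exists_step (hS : IsPGroup p S) (hF : F.IsSaturated p) (h : F.IsSolvableSystem)
    {R : Subgroup Ω} (hR : F.StronglyClosed R) (hRS : R ≠ S) :
    ∃ B, F.StronglyClosed B ∧ R < B ∧ ⁅B, B⁆ ≤ R := by
  have hn : (R.subgroupOf S).Normal := ⟨fun n hn g => Subgroup.mem_subgroupOf.2
    (CfsgLib.FusionFactor.conj_mem_of_stronglyClosed hR g.2 (Subgroup.mem_subgroupOf.1 hn))⟩
  obtain ⟨E, hE⟩ := CfsgLib.FusionFactor.exists_factorSystem_quotient F R hR
  have hcore := h R hR hRS E hE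
  have hQp : IsPGroup p (⊤ : Subgroup (S ⧸ R.subgroupOf S)) := (hS.to_quotient _).to_subgroup _
  have hN := CfsgLib.FusionFactor.isNormal_core E
  have : Nontrivial E.core := (Subgroup.nontrivial_iff_ne_bot _).2 hcore
  have hZ : Nontrivial (Subgroup.center E.core) := (hQp.to_le hN.1).center_nontrivial
  set Z := (Subgroup.center E.core).map E.core.subtype with hZdef
  have hZn : E.IsNormal Z := isNormal_of_characteristic hN (Subgroup.map_subtype_le _) (by
    rw [hZdef, show ((Subgroup.center E.core).map E.core.subtype).subgroupOf E.core = Subgroup.center E.core from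
      Subgroup.comap_map_eq_self_of_injective E.core.subtype_injective _]
    infer_instance)
  refine ⟨preimageAlong (QuotientGroup.mk' (R.subgroupOf S)) Z,
    stronglyClosed_preimage hS hF hR hE (stronglyClosed_of_normal hZn),
    lt_of_le_of_ne (le_preimage hE Z) ?_, ?_⟩
  · intro he
    obtain ⟨z, hz⟩ := exists_ne (1 : Subgroup.center E.core)
    obtain ⟨s, hs⟩ := QuotientGroup.mk'_surjective (R.subgroupOf S)
      (((z : E.core) : S ⧸ R.subgroupOf S))
    refine hz (Subtype.ext (Subtype.ext ?_))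
    show ((z : E.core) : S ⧸ R.subgroupOf S) = 1
    rw [← hs]
    refine (hE.2.1 s).2 ?_
    rw [he]
    exact mem_preimageAlong.2 ⟨s.2, by rw [Subtype.coe_eta, hs]; exact ⟨z, z.2, rfl⟩⟩
  · refine (commutator_preimage_le (A := ⊥) ?_).trans (preimage_bot hE).le
    rw [Subgroup.commutator_le]
    rintro _ ⟨a, ha, rfl⟩ _ ⟨b, -, rfl⟩
    rw [Subgroup.mem_bot, ← map_commutatorElement,
      commutatorElement_eq_one_iff_mul_comm.2 (Subgroup.mem_center_iff.1 ha b).symm, map_one]

theorem chain_of_isSolvableSystem (hS : IsPGroup p S) (hF : F.IsSaturated p)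
    (h : F.IsSolvableSystem) : Chain F ⊥ := by
  suffices ∀ (d : ℕ) (R : Subgroup Ω), Nat.card S - Nat.card R ≤ d → F.StronglyClosed R →
      Chain F R from this _ ⊥ le_rfl ⟨bot_le, fun Q hQ φ _ x => by
        rw [Subgroup.mem_bot, show x = 1 from Subtype.ext (Subgroup.mem_bot.1 (hQ x.2)), map_one]⟩
  intro d
  induction d with
  | zero =>
    intro R hd hR
    rw [Subgroup.eq_of_le_of_card_ge hR.1 (by omega)]
    exact Chain.top
  | succ d ih =>
    intro R hd hR
    by_cases hRS : R = S
    · rw [hRS]; exact Chain.top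
    obtain ⟨B, hB, hlt, hc⟩ := exists_step hS hF h hR hRS
    have := finite_of_le hB.1
    have hcard : Nat.card R < Nat.card B := by
      rcases lt_or_ge (Nat.card R) (Nat.card B) with h1 | h1
      · exact h1
      · exact absurd (Subgroup.eq_of_le_of_card_ge hlt.le h1) hlt.ne
    exact (ih B (by omega) hB).step hR hlt.le hc

theorem isSolvableSystem_iff (hS : IsPGroup p S) (hF : F.IsSaturated p) :
    F.IsSolvableSystem ↔ Chain F ⊥ :=
  ⟨chain_of_isSolvableSystem hS hF, isSolvableSystem_of_chain hS hF⟩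

/-- A solvable saturated system is constrained. -/
theorem isConstrained_of_chain (hS : IsPGroup p S) (hF : F.IsSaturated p) (h : Chain F ⊥) :
    F.IsConstrained p := by
  have hQ := CfsgLib.FusionFactor.isNormal_core F
  set Q := F.core
  have hQc := stronglyClosed_of_normal hQ
  set C := centralizerIn S Q with hC
  have hCc : F.StronglyClosed C := by
    refine ⟨inf_le_left, fun R hR φ hφ x => ⟨apply_mem hφ x, ?_⟩⟩
    obtain ⟨ψ, hψ, h1, h2⟩ := exists_normal_extension hQ hφ
    show φ x ∈ Subgroup.centralizer (Q : Set Ω)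
    rw [Subgroup.mem_centralizer_iff]
    intro q hq
    obtain ⟨y, hy, rfl⟩ := h2.ge hq
    rw [← h1 x, ← map_mul, ← map_mul]
    exact congrArg ψ (Subtype.ext ((Subgroup.mem_centralizer_iff.1 (hR x.2).2) y hy))
  have key : ∀ {A : Subgroup Ω}, Chain F A → A ⊓ C ≤ Q → C ≤ Q := by
    intro A hA
    induction hA with
    | top => exact fun hle => (le_inf inf_le_left le_rfl).trans hle
    | @step A B hA hAB hcomm hB ih =>
      intro hAC
      refine ih ?_
      set X := B ⊓ C
      have hX : F.StronglyClosed X := stronglyClosed_inf hB.stronglyClosed hCc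
      have hXn : F.IsNormal X := by
        let L : ℕ → Subgroup Ω := fun i => if i = 0 then ⊥ else if i = 1 then X ⊓ Q else X
        have hbot : F.StronglyClosed ⊥ := ⟨bot_le, fun R hR φ _ x => by
          rw [Subgroup.mem_bot, show x = 1 from Subtype.ext (Subgroup.mem_bot.1 (hR x.2)), map_one]⟩
        refine isNormal_of_series hS hF 2 L rfl rfl ?_ ?_ ?_
        · intro i
          rcases i with _ | _ | i <;> simp [L]
        · intro i
          rcases i with _ | _ | i
          · exact hbot
          · exact stronglyClosed_inf hX hQc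
          · exact hX
        · intro i hi
          rcases i with _ | _ | i
          · show ⁅X, X ⊓ Q⁆ ≤ ⊥
            rw [le_bot_iff, Subgroup.commutator_eq_bot_iff_le_centralizer]
            refine inf_le_right.trans (inf_le_right.trans ?_)
            exact (Subgroup.centralizer_le (fun x hx => (hx : x ∈ X ⊓ Q).2))
          · show ⁅X, X⁆ ≤ X ⊓ Q
            refine le_inf (Subgroup.commutator_le_self X) ((le_inf ?_ ?_).trans hAC)
            · exact (Subgroup.commutator_mono inf_le_left inf_le_left).trans hcomm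
            · exact (Subgroup.commutator_le_self X).trans inf_le_right
          · omega
      exact le_sSup hXn
  have hCQ : C ≤ Q := key h (le_trans inf_le_left bot_le)
  refine ⟨hF, Q, hQ, hQ.1, fun R hR => ?_⟩
  obtain ⟨φ, hφ, hr⟩ := hR
  have hRQ : R = Q := by
    have := finite_of_le hQ.1
    refine Subgroup.eq_of_le_of_card_ge ?_ (le_of_eq (card_eq_of_isConj ⟨φ, hφ, hr⟩))
    rw [← hr]
    rintro _ ⟨x, rfl⟩
    exact hQc.2 Q le_rfl φ hφ x
  rw [hRQ]
  exact hCQ

/-! ### Normal subsystems -/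

section normal

variable {T : Subgroup Ω} {E : FusionSystem T}

omit [Finite S] [Fact p.Prime] in
theorem stronglyClosed_of_subsystem (hEF : E.IsSubsystemOf F) (hT : F.StronglyClosed T)
    {A : Subgroup Ω} (hA : F.StronglyClosed A) : E.StronglyClosed (A ⊓ T) :=
  ⟨inf_le_right, fun R hR φ hφ x => ⟨hA.2 R (hR.trans inf_le_left) φ (hEF R hφ) x,
    hT.2 R (hR.trans inf_le_right) φ (hEF R hφ) x⟩⟩

omit [Finite S] [Fact p.Prime] in
theorem Chain.restrict (hEF : E.IsSubsystemOf F) (hT : F.StronglyClosed T) {A : Subgroup Ω}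
    (h : Chain F A) : Chain E (A ⊓ T) := by
  induction h with
  | top => rw [inf_of_le_right hT.1]; exact Chain.top
  | @step A B hA hAB hcomm hB ih =>
    exact ih.step (stronglyClosed_of_subsystem hEF hT hA) (inf_le_inf_right T hAB)
      (le_inf ((Subgroup.commutator_mono inf_le_left inf_le_left).trans hcomm)
        ((Subgroup.commutator_le_self _).trans inf_le_right))

/-- The elements of `T` all whose images under `Aut_F(T)` lie in `U`. -/
def invCore (F : FusionSystem S) (T U : Subgroup Ω) : Subgroup Ω :=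
  (⨅ α ∈ F.autGroup T, (U.subgroupOf T).comap (α : MulAut T).toMonoidHom).map T.subtype

omit [Finite S] [Fact p.Prime] in
theorem mem_invCore {U : Subgroup Ω} {x : Ω} : x ∈ invCore F T U ↔
    ∃ hx : x ∈ T, ∀ α ∈ F.autGroup T, ((α ⟨x, hx⟩ : T) : Ω) ∈ U := by
  constructor
  · rintro ⟨⟨y, hy⟩, h, rfl⟩
    simp only [SetLike.mem_coe, Subgroup.mem_iInf] at h
    exact ⟨hy, h⟩
  · rintro ⟨hx, h⟩
    refine ⟨⟨x, hx⟩, ?_, rfl⟩
    simp only [SetLike.mem_coe, Subgroup.mem_iInf]
    exact h

omit [Finite S] [Fact p.Prime] in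
theorem stronglyClosed_invCore (hE : E.IsInvariantIn F) {U : Subgroup Ω}
    (hU : E.StronglyClosed U) : F.StronglyClosed (invCore F T U) := by
  obtain ⟨hEF, hT, hinv, hfrat⟩ := hE
  refine ⟨fun x hx => hT.1 (mem_invCore.1 hx).1, fun R hR φ hφ x => ?_⟩
  have hRT : R ≤ T := fun y hy => (mem_invCore.1 (hR hy)).1
  obtain ⟨β, hβ, φ₀, hφ₀, hb⟩ := hfrat R hRT φ hφ
  have hφ₀T : φ₀ x ∈ T := apply_mem hφ₀ x
  refine mem_invCore.2 ⟨hT.2 R hRT φ hφ x, fun α hα => ?_⟩
  obtain ⟨χ, hχ, he⟩ := hinv R hRT φ₀ hφ₀ (α * β) (mul_mem hα hβ)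
  have hin : ((((α * β : MulAut T)) ⟨x, hRT x.2⟩ : T) : Ω) ∈
      (R.subgroupOf T).map (T.subtype.comp (α * β : MulAut T).toMonoidHom) :=
    ⟨⟨x, hRT x.2⟩, x.2, rfl⟩
  have h1 := he x hφ₀T hin
  have h2 : (⟨φ x, hT.2 R hRT φ hφ x⟩ : T) = β ⟨φ₀ x, hφ₀T⟩ := Subtype.ext (hb x hφ₀T)
  rw [h2, ← MulAut.mul_apply, ← h1]
  refine hU.2 _ ?_ χ hχ _
  rintro _ ⟨w, hw, rfl⟩
  exact (mem_invCore.1 (hR hw)).2 _ (mul_mem hα hβ)

omit [Finite S] [Fact p.Prime] in
theorem invCore_bot : invCore F T ⊥ = ⊥ := by
  rw [eq_bot_iff]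
  intro x hx
  obtain ⟨hxT, h⟩ := mem_invCore.1 hx
  simpa using h 1 (one_mem _)

omit [Finite S] [Fact p.Prime] in
/-- A chain of the normal subsystem continues one of `F`. -/
theorem chain_invCore (hE : E.IsInvariantIn F) (hT : Chain F T) {A : Subgroup Ω} (h : Chain E A) :
    Chain F (invCore F T A) := by
  induction h with
  | top =>
    rwa [show invCore F T T = T from le_antisymm (fun x hx => (mem_invCore.1 hx).1)
      (fun x hx => mem_invCore.2 ⟨hx, fun α _ => (α ⟨x, hx⟩).2⟩)]
  | @step A B hA hAB hcomm hB ih =>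
    refine ih.step (stronglyClosed_invCore hE hA) (fun x hx => ?_) ?_
    · obtain ⟨hxT, h⟩ := mem_invCore.1 hx
      exact mem_invCore.2 ⟨hxT, fun α hα => hAB (h α hα)⟩
    · rw [Subgroup.commutator_le]
      intro a ha b hb
      obtain ⟨haT, ha'⟩ := mem_invCore.1 ha
      obtain ⟨hbT, hb'⟩ := mem_invCore.1 hb
      refine mem_invCore.2 ⟨Subgroup.commutator_le_self T
        (Subgroup.commutator_mem_commutator haT hbT), fun α hα => ?_⟩
      show ((α ⁅(⟨a, haT⟩ : T), (⟨b, hbT⟩ : T)⁆ : T) : Ω) ∈ _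
      rw [map_commutatorElement]
      exact hcomm (Subgroup.commutator_mem_commutator (ha' α hα) (hb' α hα))

theorem isSolvableSystem_iff_normal (hS : IsPGroup p S) (hF : F.IsSaturated p)
    (hE : E.IsNormalIn F p) {Ω' : Type*} [Group Ω'] {S' : Subgroup Ω'} {θ : S →* Ω'}
    {D : FusionSystem S'} (hD : F.IsFactorSystem T θ D) :
    F.IsSolvableSystem ↔ (E.IsSolvableSystem ∧ D.IsSolvableSystem) := by
  obtain ⟨⟨hEs, -, hinv⟩, -⟩ := hE
  have hT := hinv.2.1
  have := finite_of_le hT.1
  have : Finite S' := by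
    rw [← hD.2.2.1]
    exact Finite.of_surjective θ.rangeRestrict θ.rangeRestrict_surjective
  have hS' : IsPGroup p S' := by
    rw [← hD.2.2.1]
    exact hS.of_surjective θ.rangeRestrict θ.rangeRestrict_surjective
  have hDs := isSaturated_factor hS hF hT hD
  rw [isSolvableSystem_iff hS hF, isSolvableSystem_iff (hS.to_le hT.1) hEs,
    isSolvableSystem_iff hS' hDs]
  constructor
  · intro h
    refine ⟨?_, ?_⟩
    · have := h.restrict hinv.1 hT
      rwa [bot_inf_eq] at this
    · have := h.image hT hD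
      rwa [Subgroup.bot_subgroupOf, Subgroup.map_bot] at this
  · rintro ⟨hcE, hcD⟩
    have hTc := hcD.preimage hS hF hT hD
    rw [preimage_bot hD] at hTc
    have := chain_invCore hinv hTc hcE
    rwa [invCore_bot] at this

end normal

end CfsgLib.FusionSolvable
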